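import Mathlib

/-!
# Degrees in a group of order `4 · 3 ^ x · q ^ y`

Odd numbers `f` for which `f` and `(f ± 1) / 2` have no prime divisors other than `3` and `q`,
and the linear relation of the principal block of a four-group.
-/

namespace Cfsg.Agent.Lib.KleinThree.Arith

/-- `n` has no prime divisors outside `{3, q}`. -/
def Sm (q n : ℕ) : Prop := ∃ i j : ℕ, n = 3 ^ i * q ^ j

theorem sm_of_dvd {q n x y : ℕ} (hq : q.Prime) (h : n ∣ 3 ^ x * q ^ y) : Sm q n := by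
  obtain ⟨d, e, hd, he, rfl⟩ := Nat.dvd_mul.1 h
  obtain ⟨i, -, rfl⟩ := (Nat.dvd_prime_pow Nat.prime_three).1 hd
  obtain ⟨j, -, rfl⟩ := (Nat.dvd_prime_pow hq).1 he
  exact ⟨i, j, rfl⟩

/-- Coprime `f, h` with `1 < f`: `f` is a prime power and `h` a power of the other prime. -/
theorem shape {q f h : ℕ} (hq : q.Prime) (hf : Sm q f) (hh : Sm q h) (hc : f.Coprime h)
    (hf1 : 1 < f) :
    h = 1 ∨ (∃ i j, 1 ≤ i ∧ f = 3 ^ i ∧ h = q ^ j) ∨ (∃ i j, 1 ≤ i ∧ f = q ^ i ∧ h = 3 ^ j) := by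
  obtain ⟨i, j, rfl⟩ := hf
  obtain ⟨a, b, rfl⟩ := hh
  rcases Nat.eq_zero_or_pos i with rfl | hi
  · rcases Nat.eq_zero_or_pos j with rfl | hj
    · simp at hf1
    · refine Or.inr (Or.inr ⟨j, a, hj, by simp, ?_⟩)
      rcases Nat.eq_zero_or_pos b with rfl | hb
      · simp
      · exact absurd (Nat.eq_one_of_dvd_coprimes hc (Dvd.dvd.mul_left (dvd_pow_self q hj.ne') _)
          (Dvd.dvd.mul_left (dvd_pow_self q hb.ne') _)) hq.one_lt.ne'
  · have ha : a = 0 := by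
      by_contra ha
      have := Nat.eq_one_of_dvd_coprimes hc (Dvd.dvd.mul_right (dvd_pow_self 3 hi.ne') _)
        (Dvd.dvd.mul_right (dvd_pow_self 3 ha) _)
      omega
    subst ha
    rcases Nat.eq_zero_or_pos b with rfl | hb
    · exact Or.inl (by simp)
    rcases Nat.eq_zero_or_pos j with rfl | hj
    · exact Or.inr (Or.inl ⟨i, b, hi, by simp, by simp⟩)
    · exact absurd (Nat.eq_one_of_dvd_coprimes hc (Dvd.dvd.mul_left (dvd_pow_self q hj.ne') _)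
        (Dvd.dvd.mul_left (dvd_pow_self q hb.ne') _)) hq.one_lt.ne'

/-- `f` and `(f + 1) / 2`. -/
theorem plus {q a A : ℕ} (hq : q.Prime) (ha : Sm q a) (hA : Sm q A) (h : 2 * A = a + 1) (ha1 : 1 < a) :
    (∃ i j, 1 ≤ i ∧ 1 ≤ j ∧ a = 3 ^ i ∧ A = q ^ j) ∨
      (∃ i j, 1 ≤ i ∧ 1 ≤ j ∧ a = q ^ i ∧ A = 3 ^ j) := by
  have hc : a.Coprime A := by
    refine Nat.coprime_of_dvd' fun k _ hka hkA => ?_
    have h2 := dvd_mul_of_dvd_right hkA 2
    rw [h] at h2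
    exact (Nat.dvd_add_right hka).1 h2
  have hA1 : A ≠ 1 := by omega
  rcases shape hq ha hA hc ha1 with h1 | ⟨i, j, hi, hai, hAj⟩ | ⟨i, j, hi, hai, hAj⟩
  · exact absurd h1 hA1
  · exact Or.inl ⟨i, j, hi, Nat.one_le_iff_ne_zero.2 fun h0 => hA1 (by rw [hAj, h0, pow_zero]), hai, hAj⟩
  · exact Or.inr ⟨i, j, hi, Nat.one_le_iff_ne_zero.2 fun h0 => hA1 (by rw [hAj, h0, pow_zero]), hai, hAj⟩

/-- `f` and `(f - 1) / 2`. -/
theorem minus {q a A : ℕ} (hq : q.Prime) (hq3 : q ≠ 3) (ha : Sm q a) (hA : Sm q A)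
    (h : a = 2 * A + 1) (hA0 : A ≠ 0) :
    (∃ i j, 1 ≤ i ∧ a = 3 ^ i ∧ A = q ^ j) ∨
      (∃ i j, 1 ≤ i ∧ 1 ≤ j ∧ a = q ^ i ∧ A = 3 ^ j) := by
  have hc : a.Coprime A := by
    refine Nat.coprime_of_dvd' fun k _ hka hkA => ?_
    rw [h] at hka
    exact (Nat.dvd_add_right (dvd_mul_of_dvd_right hkA 2)).1 hka
  rcases shape hq ha hA hc (by omega) with h1 | ⟨i, j, hi, hai, hAj⟩ | ⟨i, j, hi, hai, hAj⟩
  · exact Or.inl ⟨1, 0, le_rfl, by omega, by simpa using h1⟩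
  · exact Or.inl ⟨i, j, hi, hai, hAj⟩
  · rcases Nat.eq_zero_or_pos j with rfl | hj
    · exfalso
      have h3 : a = 3 := by rw [pow_zero] at hAj; omega
      have := (Nat.prime_dvd_prime_iff_eq hq Nat.prime_three).1 (h3 ▸ hai ▸ dvd_pow_self q (by omega))
      exact hq3 this
    · exact Or.inr ⟨i, j, hi, hj, hai, hAj⟩

theorem not_three_dvd {q : ℕ} (hq : q.Prime) (hq3 : q ≠ 3) (i : ℕ) : ¬ 3 ∣ q ^ i := fun h =>
  hq3 ((Nat.prime_dvd_prime_iff_eq Nat.prime_three hq).1 (Nat.prime_three.dvd_of_dvd_pow h)).symm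

theorem three_dvd {i : ℕ} (hi : 1 ≤ i) : 3 ∣ 3 ^ i := dvd_pow_self 3 (by omega)

/-- `r ^ a + r ^ b = 2 r ^ l` forces equal exponents. -/
theorem eq_exp {r a b l : ℕ} (hr : 3 ≤ r) (h : r ^ a + r ^ b = 2 * r ^ l) : a = l ∧ b = l := by
  have key : ∀ a b : ℕ, a ≤ b → r ^ a + r ^ b = 2 * r ^ l → a = l ∧ b = l := by
    intro a b hab h
    have hb : b ≤ l := by
      by_contra hlb
      have h1 : r ^ (l + 1) ≤ r ^ b := Nat.pow_le_pow_right (by omega) (by omega)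
      rw [pow_succ] at h1
      have h2 : 0 < r ^ l := pow_pos (by omega) _
      have h3 := Nat.mul_le_mul_left (r ^ l) hr
      omega
    have hb' : r ^ b ≤ r ^ l := Nat.pow_le_pow_right (by omega) hb
    have ha' : r ^ a ≤ r ^ l := Nat.pow_le_pow_right (by omega) (hab.trans hb)
    exact ⟨Nat.pow_right_injective (by omega) (show r ^ a = r ^ l by omega),
      Nat.pow_right_injective (by omega) (show r ^ b = r ^ l by omega)⟩
  rcases le_total a b with hab | hab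
  · exact key a b hab h
  · exact (key b a hab (by rw [add_comm]; exact h)).symm

/-- `3 ^ n + 2 · 3 ^ k = 3 ^ i`. -/
theorem three_eq {n k i : ℕ} (h : 3 ^ n + 2 * 3 ^ k = 3 ^ i) : k = n ∧ i = n + 1 := by
  rcases lt_trichotomy n k with hnk | rfl | hkn
  · exfalso
    obtain ⟨d, rfl⟩ : ∃ d, k = n + 1 + d := ⟨k - (n + 1), by omega⟩
    rw [pow_add, pow_succ] at h
    rcases le_or_gt i n with hi | hi
    · have : 3 ^ i ≤ 3 ^ n := Nat.pow_le_pow_right (by norm_num) hi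
      have : 0 < 3 ^ n * 3 * 3 ^ d := by positivity
      omega
    · obtain ⟨e, rfl⟩ : ∃ e, i = n + 1 + e := ⟨i - (n + 1), by omega⟩
      rw [pow_add, pow_succ] at h
      have h3 : 3 ^ n * (1 + 6 * 3 ^ d) = 3 ^ n * (3 * 3 ^ e) := by linarith
      have := Nat.eq_of_mul_eq_mul_left (by positivity) h3
      omega
  · refine ⟨rfl, (Nat.pow_right_injective (le_refl 3 |>.trans' (by norm_num)) ?_).symm⟩
    show 3 ^ (n + 1) = 3 ^ i
    rw [pow_succ]; omega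
  · exfalso
    obtain ⟨d, rfl⟩ : ∃ d, n = k + 1 + d := ⟨n - (k + 1), by omega⟩
    rw [pow_add, pow_succ] at h
    rcases le_or_gt i k with hi | hi
    · have : 3 ^ i ≤ 3 ^ k := Nat.pow_le_pow_right (by norm_num) hi
      have : 0 < 3 ^ k * 3 * 3 ^ d := by positivity
      have : 0 < 3 ^ k := by positivity
      omega
    · obtain ⟨e, rfl⟩ : ∃ e, i = k + 1 + e := ⟨i - (k + 1), by omega⟩
      rw [pow_add, pow_succ] at h
      have h3 : 3 ^ k * (3 * 3 ^ d + 2) = 3 ^ k * (3 * 3 ^ e) := by linarith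
      have := Nat.eq_of_mul_eq_mul_left (by positivity) h3
      omega

theorem no_q_dvd_three {q : ℕ} (hq : q.Prime) (hq2 : q ≠ 2) (hq3 : q ≠ 3) (k : ℕ) :
    ¬ q ∣ 2 * 3 ^ k := fun h => by
  rcases (Nat.Prime.dvd_mul hq).1 h with h | h
  · exact hq2 ((Nat.prime_dvd_prime_iff_eq hq Nat.prime_two).1 h)
  · exact hq3 ((Nat.prime_dvd_prime_iff_eq hq Nat.prime_three).1 (hq.dvd_of_dvd_pow h))

/-- The relation `1 + a + b = c` has no solution. -/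
theorem no_sum {q a b c A B C : ℕ} (hq : q.Prime) (hq2 : q ≠ 2) (hq3 : q ≠ 3)
    (ha : Sm q a) (hA : Sm q A) (hAa : 2 * A = a + 1) (ha1 : 1 < a)
    (hb : Sm q b) (hB : Sm q B) (hBb : 2 * B = b + 1) (hb1 : 1 < b)
    (hc : Sm q c) (hC : Sm q C) (hCc : c = 2 * C + 1)
    (hsum : 1 + a + b = c) : False := by
  have h5 : 5 ≤ q := hq.five_le_of_ne_two_of_ne_three hq2 hq3
  have hC0 : C ≠ 0 := by omega
  have hN : ∀ {j}, 1 ≤ j → q ∣ q ^ j := fun hj => dvd_pow_self q (by omega)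
  rcases minus hq hq3 hc hC hCc hC0 with ⟨i, j, hi, rfl, rfl⟩ | ⟨i, j, hi, hj, rfl, rfl⟩
  · rcases Nat.eq_zero_or_pos j with rfl | hj
    · rw [pow_zero] at hCc; omega
    rcases plus hq ha hA hAa ha1 with ⟨i1, j1, hi1, hj1, rfl, rfl⟩ | ⟨i1, j1, hi1, hj1, rfl, rfl⟩ <;>
      rcases plus hq hb hB hBb hb1 with ⟨i2, j2, hi2, hj2, rfl, rfl⟩ | ⟨i2, j2, hi2, hj2, rfl, rfl⟩
    · have h3 : 3 ∣ 2 * q ^ j := (show 3 ^ i1 + 3 ^ i2 = 2 * q ^ j by omega) ▸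
        dvd_add (three_dvd hi1) (three_dvd hi2)
      rcases (Nat.Prime.dvd_mul Nat.prime_three).1 h3 with h | h
      · omega
      · exact not_three_dvd hq hq3 j h
    · have e : 3 ^ i1 + q ^ i2 = 2 * q ^ j := by omega
      have h1 : q ∣ 3 ^ i1 := (Nat.dvd_add_left (hN hi2)).1 (e ▸ dvd_mul_of_dvd_right (hN hj) 2)
      exact no_q_dvd_three hq hq2 hq3 i1 (dvd_mul_of_dvd_right h1 2)
    · have e : q ^ i1 + 3 ^ i2 = 2 * q ^ j := by omega
      have h1 : q ∣ 3 ^ i2 := (Nat.dvd_add_right (hN hi1)).1 (e ▸ dvd_mul_of_dvd_right (hN hj) 2)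
      exact no_q_dvd_three hq hq2 hq3 i2 (dvd_mul_of_dvd_right h1 2)
    · obtain ⟨rfl, rfl⟩ := eq_exp (by omega) (show q ^ i1 + q ^ i2 = 2 * q ^ j by omega)
      have d1 := three_dvd hj1
      have d2 := three_dvd hi
      omega
  · have hd : 3 ∣ 3 ^ j := three_dvd hj
    rcases plus hq ha hA hAa ha1 with ⟨i1, j1, hi1, hj1, rfl, rfl⟩ | ⟨i1, j1, hi1, hj1, rfl, rfl⟩ <;>
      rcases plus hq hb hB hBb hb1 with ⟨i2, j2, hi2, hj2, rfl, rfl⟩ | ⟨i2, j2, hi2, hj2, rfl, rfl⟩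
    · obtain ⟨rfl, rfl⟩ := eq_exp le_rfl (show 3 ^ i1 + 3 ^ i2 = 2 * 3 ^ j by omega)
      -- `3 ^ j + 1 = 2 q ^ j1` and `q ^ i = 2 · 3 ^ j + 1`
      obtain ⟨u, hu⟩ := hN hj1
      obtain ⟨v, hv⟩ := hN hi
      have : q ∣ 1 := (Nat.dvd_add_right (show q ∣ q ^ i from ⟨v, hv⟩)).1
        (show q ∣ q ^ i + 1 from ⟨4 * u, by rw [mul_left_comm]; omega⟩)
      exact hq.one_lt.ne' (Nat.dvd_one.1 this)
    · exact not_three_dvd hq hq3 i2 ((Nat.dvd_add_right (three_dvd hi1)).1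
        ((show 3 ^ i1 + q ^ i2 = 2 * 3 ^ j by omega) ▸ dvd_mul_of_dvd_right hd 2))
    · exact not_three_dvd hq hq3 i1 ((Nat.dvd_add_left (three_dvd hi2)).1
        ((show q ^ i1 + 3 ^ i2 = 2 * 3 ^ j by omega) ▸ dvd_mul_of_dvd_right hd 2))
    · exact no_q_dvd_three hq hq2 hq3 j ((show q ^ i1 + q ^ i2 = 2 * 3 ^ j by omega) ▸
        dvd_add (hN hi1) (hN hi2))

/-- The relation `1 + a = b + c` has only the solution `(5, 3, 3)`. -/
theorem sum_eq {q a b c A B C : ℕ} (hq : q.Prime) (hq2 : q ≠ 2) (hq3 : q ≠ 3)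
    (ha : Sm q a) (hA : Sm q A) (hAa : 2 * A = a + 1) (ha1 : 1 < a)
    (hb : Sm q b) (hB : Sm q B) (hBb : b = 2 * B + 1) (hb1 : 1 < b)
    (hc : Sm q c) (hC : Sm q C) (hCc : c = 2 * C + 1) (hc1 : 1 < c)
    (hsum : 1 + a = b + c) : c = 3 := by
  have hN : ∀ {j}, 1 ≤ j → q ∣ q ^ j := fun hj => dvd_pow_self q (by omega)
  have h5 : 5 ≤ q := hq.five_le_of_ne_two_of_ne_three hq2 hq3
  have hone : ¬ q ∣ 1 := fun h => hq.one_lt.ne' (Nat.dvd_one.1 h)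
  have key : ∀ n k i l : ℕ, 1 ≤ k → 1 ≤ n → 1 ≤ l → 1 ≤ i → ∀ m, 1 ≤ m →
      q ^ m = 2 * 3 ^ k + 1 → 2 * q ^ l = 3 ^ i + 1 → 3 ^ n + q ^ m = 2 * q ^ l → False := by
    intro n k i l hk hn hl hi m hm e1 e2 e3
    obtain ⟨rfl, rfl⟩ := three_eq (show 3 ^ n + 2 * 3 ^ k = 3 ^ i by omega)
    rw [pow_succ] at e2
    obtain ⟨u, hu⟩ := hN hl
    obtain ⟨v, hv⟩ := hN hm
    refine hone ((Nat.dvd_add_right (show q ∣ 4 * q ^ l from ⟨4 * u, by rw [hu]; ring⟩)).1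
      (show q ∣ 4 * q ^ l + 1 from ⟨3 * v, ?_⟩))
    rw [show q * (3 * v) = 3 * (q * v) by ring]
    omega
  rcases plus hq ha hA hAa ha1 with ⟨i1, l, hi1, hl, rfl, rfl⟩ | ⟨l, m, hl, hm, rfl, rfl⟩
  · rcases minus hq hq3 hb hB hBb (by omega) with ⟨i2, j2, hi2, rfl, rfl⟩ | ⟨i2, j2, hi2, hj2, rfl, rfl⟩ <;>
      rcases minus hq hq3 hc hC hCc (by omega) with ⟨i3, j3, hi3, rfl, rfl⟩ | ⟨i3, j3, hi3, hj3, rfl, rfl⟩
    · exfalso
      have d1 := three_dvd hi2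
      have d2 := three_dvd hi3
      have d3 := three_dvd hi1
      omega
    · exact absurd (key i2 j3 i1 l hj3 hi2 hl hi1 i3 hi3 (by omega) (by omega) (by omega)) id
    · exact absurd (key i3 j2 i1 l hj2 hi3 hl hi1 i2 hi2 (by omega) (by omega) (by omega)) id
    · exfalso
      obtain ⟨rfl, rfl⟩ := eq_exp (by omega) (show q ^ i2 + q ^ i3 = 2 * q ^ l by omega)
      have d1 := three_dvd hi1
      have d2 := three_dvd hj2
      omega
  · have hd : 3 ∣ 3 ^ m := three_dvd hm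
    rcases minus hq hq3 hb hB hBb (by omega) with ⟨i2, j2, hi2, rfl, rfl⟩ | ⟨i2, j2, hi2, hj2, rfl, rfl⟩ <;>
      rcases minus hq hq3 hc hC hCc (by omega) with ⟨i3, j3, hi3, rfl, rfl⟩ | ⟨i3, j3, hi3, hj3, rfl, rfl⟩
    · obtain ⟨rfl, rfl⟩ := eq_exp le_rfl (show 3 ^ i2 + 3 ^ i3 = 2 * 3 ^ m by omega)
      rcases Nat.eq_zero_or_pos j3 with rfl | hj
      · rw [pow_zero] at hCc; omega
      · exfalso
        obtain ⟨u, hu⟩ := hN hj
        obtain ⟨v, hv⟩ := hN hl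
        refine hone ((Nat.dvd_add_right (show q ∣ 4 * q ^ j3 from ⟨4 * u, by rw [hu]; ring⟩)).1
          (show q ∣ 4 * q ^ j3 + 1 from ⟨v, ?_⟩))
        omega
    · exact absurd ((Nat.dvd_add_right (three_dvd hi2)).1
        ((show 3 ^ i2 + q ^ i3 = 2 * 3 ^ m by omega) ▸ dvd_mul_of_dvd_right hd 2))
        (not_three_dvd hq hq3 i3)
    · exact absurd ((Nat.dvd_add_left (three_dvd hi3)).1
        ((show q ^ i2 + 3 ^ i3 = 2 * 3 ^ m by omega) ▸ dvd_mul_of_dvd_right hd 2))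
        (not_three_dvd hq hq3 i2)
    · exact absurd ((show q ^ i2 + q ^ i3 = 2 * 3 ^ m by omega) ▸ dvd_add (hN hi2) (hN hi3))
        (no_q_dvd_three hq hq2 hq3 m)

end Cfsg.Agent.Lib.KleinThree.Arith
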