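import Cfsg.Agent.Lib.Characters.Kernel

/-!
# A faithful representation of degree three and a four-group

If the involutions of a four-group `{1, x, y, x y}` have trace `-1` in a faithful representation
of degree three, then so have few elements commuting with them.
-/

namespace Cfsg.Agent.Lib.KleinThree.DegThree

set_option linter.unusedSectionVars false

open LinearMap

variable {G : Type*} [Group G] {V : Type*} [AddCommGroup V] [Module ℂ V] [FiniteDimensional ℂ V]
  (ρ : Representation ℂ G V)

/-- The projection onto the fixed space of an involution. -/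
noncomputable def half (x : G) : Module.End ℂ V := (1 / 2 : ℂ) • (1 + ρ x)

variable {ρ}

theorem half_mul {x : G} (hx : x * x = 1) : half ρ x * half ρ x = half ρ x := by
  have h : ρ x * ρ x = 1 := by rw [← map_mul, hx, map_one]
  simp only [half, smul_mul_assoc, mul_smul_comm, mul_add, add_mul, one_mul, mul_one, h]
  module

theorem half_comm {x g : G} (h : x * g = g * x) : half ρ x * ρ g = ρ g * half ρ x := by
  simp only [half, smul_mul_assoc, mul_smul_comm, add_mul, mul_add, one_mul, mul_one, ← map_mul, h]

theorem trace_half_mul (x g : G) :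
    trace ℂ V (ρ g * half ρ x) = (1 / 2 : ℂ) * (ρ.character g + ρ.character (g * x)) := by
  simp only [half, mul_smul_comm, mul_add, mul_one, ← map_mul, map_smul, map_add, smul_eq_mul]
  rfl

theorem trace_half {x : G} : trace ℂ V (half ρ x) = (1 / 2 : ℂ) * (ρ.character 1 + ρ.character x) := by
  rw [← one_mul (half ρ x), ← map_one ρ, trace_half_mul, one_mul]

theorem isProj_range {f : Module.End ℂ V} (h : f * f = f) : IsProj (range f) f :=
  ⟨fun w => mem_range_self f w, fun w hw => by
    obtain ⟨u, rfl⟩ := mem_range.1 hw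
    exact LinearMap.congr_fun h u⟩

/-- The fixed line of an involution with trace `-1` in degree three. -/
theorem exists_line {x : G} (hx : x * x = 1) (h1 : ρ.character 1 = 3) (hxv : ρ.character x = -1) :
    ∃ v : V, v ≠ 0 ∧ half ρ x v = v ∧ ∀ w : V, ∃ c : ℂ, half ρ x w = c • v := by
  have hp := isProj_range (half_mul (ρ := ρ) hx)
  have ht := hp.trace
  rw [trace_half, h1, hxv] at ht
  have hr : Module.finrank ℂ (range (half ρ x)) = 1 := by
    have h' : ((Module.finrank ℂ (range (half ρ x)) : ℕ) : ℂ) = ((1 : ℕ) : ℂ) := by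
      rw [← ht]; norm_num
    exact_mod_cast h'
  obtain ⟨⟨v, hv⟩, hv0, hspan⟩ := finrank_eq_one_iff'.1 hr
  refine ⟨v, fun h => hv0 (Subtype.ext h), hp.map_id v hv, fun w => ?_⟩
  obtain ⟨c, hc⟩ := hspan ⟨half ρ x w, mem_range_self _ w⟩
  exact ⟨c, (congrArg Subtype.val hc).symm⟩

variable {x y : G}

/-- An element commuting with `x` acts on the line by the average of two traces. -/
theorem apply_line (h1 : ρ.character 1 = 3) (hxv : ρ.character x = -1) {v : V}
    (hv : half ρ x v = v) (hline : ∀ w : V, ∃ c : ℂ, half ρ x w = c • v) {g : G}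
    (hg : x * g = g * x) :
    ρ g v = ((1 / 2 : ℂ) * (ρ.character g + ρ.character (g * x))) • v := by
  obtain ⟨a, ha⟩ := hline (ρ g v)
  have ha' : ρ g v = a • v := by
    rw [← ha, ← Module.End.mul_apply, half_comm hg, Module.End.mul_apply, hv]
  have hop : ρ g * half ρ x = a • half ρ x := by
    refine LinearMap.ext fun w => ?_
    obtain ⟨c, hc⟩ := hline w
    rw [Module.End.mul_apply, LinearMap.smul_apply, hc, map_smul, ha', smul_comm]
  have ht := congrArg (trace ℂ V) hop
  rw [trace_half_mul, map_smul, trace_half, h1, hxv, smul_eq_mul] at ht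
  rw [ha', show ((1 / 2 : ℂ) * (ρ.character g + ρ.character (g * x))) = a by rw [ht]; ring]

/-- Elements `o`, `y o y⁻¹` of trace data `(a, -1)` coincide. -/
theorem commute_of_values (hf : ∀ g : G, ρ.character g = ρ.character 1 → g = 1) (hx : x * x = 1)
    (h1 : ρ.character 1 = 3) (hxv : ρ.character x = -1) (hxy : x * y = y * x) {o : G}
    (ho : x * o = o * x) (hd : ρ.character (o⁻¹ * (y * o * y⁻¹) * x) = -1) : y * o = o * y := by
  obtain ⟨v, hv0, hv, hline⟩ := exists_line hx h1 hxv
  have hy' : x * (y * o * y⁻¹) = y * o * y⁻¹ * x := by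
    have e : y⁻¹ * x = x * y⁻¹ := by
      rw [inv_mul_eq_iff_eq_mul, ← mul_assoc, ← hxy, mul_inv_cancel_right]
    rw [← mul_assoc, ← mul_assoc, hxy, mul_assoc y x o, ho, mul_assoc (y * o) y⁻¹ x, e]
    simp only [mul_assoc]
  have hd' : x * (o⁻¹ * (y * o * y⁻¹)) = o⁻¹ * (y * o * y⁻¹) * x := by
    have e : x * o⁻¹ = o⁻¹ * x := by
      rw [eq_inv_mul_iff_mul_eq, ← mul_assoc, ← ho, mul_inv_cancel_right]
    rw [← mul_assoc, e, mul_assoc, hy', ← mul_assoc]
  have h2 : ρ.character (y * o * y⁻¹) = ρ.character o := ρ.char_conj o y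
  have h3 : ρ.character (y * o * y⁻¹ * x) = ρ.character (o * x) := by
    rw [show y * o * y⁻¹ * x = y * (o * x) * y⁻¹ by
      rw [mul_assoc y o, mul_assoc y (o * y⁻¹), mul_assoc o y⁻¹, mul_assoc y (o * x), mul_assoc o x]
      congr 2
      rw [inv_mul_eq_iff_eq_mul, ← mul_assoc, ← hxy, mul_inv_cancel_right]]
    exact ρ.char_conj (o * x) y
  have ho' := apply_line h1 hxv hv hline ho
  have hy'' := apply_line h1 hxv hv hline hy'
  rw [h2, h3, ← ho'] at hy''
  have hfix : ρ (o⁻¹ * (y * o * y⁻¹)) v = v := by
    rw [map_mul, Module.End.mul_apply, hy'', ← Module.End.mul_apply, ← map_mul, inv_mul_cancel,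
      map_one, Module.End.one_apply]
  have hd2 := apply_line h1 hxv hv hline hd'
  rw [hfix, hd] at hd2
  have hc : (1 : ℂ) = (1 / 2 : ℂ) * (ρ.character (o⁻¹ * (y * o * y⁻¹)) + -1) :=
    smul_left_injective ℂ hv0 (by simpa using hd2)
  have := hf (o⁻¹ * (y * o * y⁻¹)) (by rw [h1]; linear_combination -2 * hc)
  rw [inv_mul_eq_one] at this
  calc y * o = y * o * y⁻¹ * y := (inv_mul_cancel_right _ _).symm
    _ = o * y := by rw [← this]

/-- An element centralising the four-group, with all three mixed traces `-1`, is trivial. -/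
theorem eq_one_of_values (hf : ∀ g : G, ρ.character g = ρ.character 1 → g = 1) (hx : x * x = 1)
    (hy : y * y = 1) (h1 : ρ.character 1 = 3) (hxv : ρ.character x = -1) (hyv : ρ.character y = -1)
    (hxy : x * y = y * x) (hxyv : ρ.character (x * y) = -1) {o : G}
    (hox : ρ.character (o * x) = -1) (hoy : ρ.character (o * y) = -1)
    (hoxy : ρ.character (o * (x * y)) = -1) : o = 1 := by
  set F := half ρ x * half ρ y with hF
  have hcomm : half ρ y * half ρ x = half ρ x * half ρ y := by
    have h := half_comm (ρ := ρ) hxy.symm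
    simp only [half, smul_mul_assoc, mul_smul_comm, add_mul, mul_add, one_mul, mul_one, ← map_mul,
      hxy]
    module
  have hFF : F * F = F := by
    rw [hF, mul_assoc, ← mul_assoc (half ρ y), hcomm, mul_assoc (half ρ x) (half ρ y),
      half_mul hy, ← mul_assoc, half_mul hx]
  have hex : ∀ g : G, trace ℂ V (ρ g * F) = (1 / 4 : ℂ) * (ρ.character g + ρ.character (g * x) +
      ρ.character (g * y) + ρ.character (g * (x * y))) := by
    intro g
    simp only [hF, half, smul_mul_assoc, mul_smul_comm, mul_add, add_mul, one_mul,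
      mul_one, ← map_mul, map_smul, map_add, smul_eq_mul]
    simp only [Representation.character]
    ring
  have hp := isProj_range hFF
  have ht := hp.trace
  have he := hex 1
  rw [map_one, one_mul, one_mul, one_mul, one_mul, h1, hxv, hyv, hxyv] at he
  rw [he] at ht
  have hr : Module.finrank ℂ (range F) = 0 := by
    have h' : ((Module.finrank ℂ (range F) : ℕ) : ℂ) = ((0 : ℕ) : ℂ) := by
      rw [← ht]; norm_num
    exact_mod_cast h'
  have hF0 : F = 0 := LinearMap.range_eq_bot.1 (Submodule.finrank_eq_zero.1 hr)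
  have h := hex o
  rw [hF0, mul_zero, map_zero, hox, hoy, hoxy] at h
  exact hf o (by rw [h1]; linear_combination -4 * h)

end Cfsg.Agent.Lib.KleinThree.DegThree
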