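import Cfsg.Agent.Lib.DihedralCentralizer.Klein
import Cfsg.Agent.Lib.DihedralCentralizer.FourGroup
import Cfsg.Agent.Lib.DegreeBounds.Basic
import Cfsg.Agent.Lib.KleinThree.Arith
import Cfsg.Agent.Lib.KleinThree.DegThree
import Cfsg.Agent.Lib.Induced.Burnside
import Cfsg.Agent.Lib.H80.LinearChar
import Cfsg.Agent.S0992
import Cfsg.Agent.S4479

/-!
# Simple groups of order `4 · p ^ a · q ^ b`

Such a group is the alternating group of degree five.  The degrees `f` of the principal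
`2`-block satisfy a linear relation, and the order formula makes each `(f ± 1) / 2` a number
with prime divisors `3` and `q`; this leaves the degrees `5, 3, 3`.  The character of degree
three then makes the centraliser of an involution a four-group.
-/

set_option autoImplicit false

namespace Cfsg.Agent.Lib.KleinThree

open Cfsg.Agent.Lib
open scoped commutatorElement

universe u

variable {G : Type u} [Group G] [Finite G]

theorem no_normal_complement [IsSimpleGroup G] (hna : ¬ IsMulCommutative G) {N P : Subgroup G}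
    [N.Normal] [IsMulCommutative P] (hP : P ≠ ⊥) (h : Subgroup.IsComplement' N P) : False := by
  rcases ‹N.Normal›.eq_bot_or_eq_top with rfl | rfl
  · have hP' : P = ⊤ := Subgroup.isComplement'_bot_left.1 h
    subst hP'
    exact hna ⟨⟨fun a b => congrArg Subtype.val
      (‹IsMulCommutative ↥(⊤ : Subgroup G)›.is_comm.comm ⟨a, trivial⟩ ⟨b, trivial⟩)⟩⟩
  · exact hP (Subgroup.isComplement'_top_left.1 h)

theorem deg_ne_one [IsSimpleGroup G] (hna : ¬ IsMulCommutative G) (χ : Cfsg.IrrCharacter G)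
    (h : (χ : G → ℂ) ≠ fun _ => 1) : 1 < Cfsg.charDegree (χ : G → ℂ) := by
  refine lt_of_le_of_ne (DegreeBounds.Basic.charDegree_pos χ) fun h1 => h ?_
  have hp : commutator G = ⊤ := by
    refine (Subgroup.Normal.eq_bot_or_eq_top inferInstance).resolve_left fun hb => hna ⟨⟨fun a b => ?_⟩⟩
    refine commutatorElement_eq_one_iff_mul_comm.1 ?_
    have : ⁅a, b⁆ ∈ commutator G :=
      Subgroup.commutator_mem_commutator (Subgroup.mem_top a) (Subgroup.mem_top b)
    rwa [hb, Subgroup.mem_bot] at this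
  exact funext fun g => H80.LinearChar.eq_one_of_mem_commutator χ
    (by rw [DegreeBounds.Basic.charDegree_irr χ, ← h1]; simp) (hp ▸ Subgroup.mem_top g)

/-- A simple group of order `4 · 3 ^ x · q ^ y` has a four-group as an involution centraliser. -/
theorem centralizer_eq [IsSimpleGroup G] (hna : ¬ IsMulCommutative G) {q x y : ℕ} (hq : q.Prime)
    (hq2 : q ≠ 2) (hq3 : q ≠ 3) (hG : Nat.card G = 4 * (3 ^ x * q ^ y)) (T : Sylow 2 G)
    (hK : IsKleinFour (T : Subgroup G)) :
    ∃ t : G, orderOf t = 2 ∧ Subgroup.centralizer ({t} : Set G) = (T : Subgroup G) := by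
  classical
  haveI : Fact (Nat.Prime 2) := ⟨Nat.prime_two⟩
  haveI : IsMulCommutative (T : Subgroup G) := IsKleinFour.isMulCommutative
  have hT4 : Nat.card ↥(T : Subgroup G) = 4 := hK.card_four
  have hTne : (T : Subgroup G) ≠ ⊥ := fun h => by rw [h, Subgroup.card_bot] at hT4; omega
  have hone : ∀ s t : G, orderOf s = 2 → orderOf t = 2 → IsConj s t := by
    intro s t hs ht
    rcases Involutions.KleinSylow.card_classes hK with h | h
    · obtain ⟨C, hC⟩ := Nat.card_eq_one_iff_exists.1 h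
      have h1 := hC ⟨ConjClasses.mk s, s, hs, rfl⟩
      have h2 := hC ⟨ConjClasses.mk t, t, ht, rfl⟩
      exact ConjClasses.mk_eq_mk_iff_isConj.1 (congrArg Subtype.val (h1.trans h2.symm))
    · obtain ⟨N, hN, hc⟩ := (Involutions.KleinSylow.card_classes_eq_three_iff hK).1 h
      exact (no_normal_complement hna hTne hc).elim
  set g₀ := 3 ^ x * q ^ y with hg₀
  have hg₀odd : Odd g₀ := Odd.mul (Odd.pow (by decide)) (Odd.pow (hq.odd_of_ne_two hq2))
  have hnc : ¬ ∃ N : Subgroup G, N.Normal ∧ Nat.card N = g₀ := by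
    rintro ⟨N, hN, hNc⟩
    refine no_normal_complement (N := N) hna hTne (Subgroup.isComplement'_of_coprime ?_ ?_)
    · rw [hNc, hT4, hG, mul_comm]
    · rw [hNc, hT4]
      exact Nat.Coprime.pow_right 2 (Nat.coprime_two_right.2 hg₀odd)
  obtain ⟨t, hts⟩ := exists_prime_orderOf_dvd_card' (G := ↥(T : Subgroup G)) 2 (hT4 ▸ by norm_num)
  have ht : orderOf (t : G) = 2 := by rw [Subgroup.orderOf_coe]; exact hts
  have htT : (t : G) ∈ (T : Subgroup G) := t.2
  obtain ⟨M, hM⟩ := Blocks.exists_isPModular 2 Nat.prime_two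
  obtain ⟨ζ₂, ζ₃, ζ₄, ε, hε, hn2, hn3, h23, h24, h34, hB, hval, h42, h43, h44, hrel⟩ :=
    S0948.result M hM T hK hone
  have hn4 : (ζ₄ : G → ℂ) ≠ fun _ => 1 := fun h => by
    have := (hval t ht).2.2
    rw [h] at this
    norm_num at this
  have hform := S4479.result M hM g₀ hg₀odd hG hnc T t htT ht ζ₂ ζ₃ ζ₄ 1 ε (-1) hB
    ⟨hn2, hn3, hn4, h23, h24, h34⟩ ⟨Or.inl rfl, hε, Or.inr rfl⟩
    ⟨by simpa using (hval t ht).1, (hval t ht).2.1, by simpa using (hval t ht).2.2⟩
  set a := Cfsg.charDegree (ζ₂ : G → ℂ) with ha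
  set b := Cfsg.charDegree (ζ₃ : G → ℂ) with hb
  set c := Cfsg.charDegree (ζ₄ : G → ℂ) with hc
  have ha1 : 1 < a := deg_ne_one hna ζ₂ hn2
  have hb1 : 1 < b := deg_ne_one hna ζ₃ hn3
  have hc1 : 1 < c := deg_ne_one hna ζ₄ hn4
  have hrel1 : (1 : ℤ) + a + ε * b - c = 0 := by
    have h := hrel 1 (by simp)
    rw [DegreeBounds.Basic.charDegree_irr ζ₂, DegreeBounds.Basic.charDegree_irr ζ₃,
      DegreeBounds.Basic.charDegree_irr ζ₄] at h
    exact_mod_cast h
  -- the two centralisers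
  have hTW : (T : Subgroup G) ≤ Subgroup.centralizer ((T : Subgroup G) : Set G) :=
    fun s hs r hr => setLike_mul_comm hr hs
  have hWC : Subgroup.centralizer ((T : Subgroup G) : Set G) ≤
      Subgroup.centralizer ({(t : G)} : Set G) := fun s hs =>
    Subgroup.mem_centralizer_singleton_iff.2 (hs _ htT).symm
  obtain ⟨w, hw⟩ : 4 ∣ Nat.card ↥(Subgroup.centralizer ((T : Subgroup G) : Set G)) :=
    hT4 ▸ Subgroup.card_dvd_of_le hTW
  obtain ⟨u, hu⟩ : 4 ∣ Nat.card ↥(Subgroup.centralizer ({(t : G)} : Set G)) :=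
    hT4 ▸ Subgroup.card_dvd_of_le (hTW.trans hWC)
  have hug : u ∣ g₀ := Nat.dvd_of_mul_dvd_mul_left (by norm_num)
    (hu ▸ hG ▸ Subgroup.card_subgroup_dvd_card _)
  -- degrees are odd divisors of the order
  have hdeg : ∀ (χ : Cfsg.IrrCharacter G) (e : ℤ), e = 1 ∨ e = -1 →
      (4 : ℤ) ∣ Cfsg.charDegree (χ : G → ℂ) - e → Cfsg.charDegree (χ : G → ℂ) ∣ g₀ := by
    intro χ e he h4
    refine Nat.Coprime.dvd_of_dvd_mul_left ?_ (hG ▸ DegreeBounds.Basic.charDegree_dvd χ)
    exact Nat.Coprime.pow_right 2 (Nat.coprime_two_right.2 (Nat.odd_iff.2 (by omega)))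
  have hag : a ∣ g₀ := hdeg ζ₂ 1 (Or.inl rfl) h42
  have hbg : b ∣ g₀ := hdeg ζ₃ ε hε h43
  have hcg : c ∣ g₀ := hdeg ζ₄ (-1) (Or.inr rfl) (by simpa using h44)
  obtain ⟨A, hA⟩ : ∃ A, 2 * A = a + 1 := ⟨(a + 1) / 2, by omega⟩
  obtain ⟨C, hC⟩ : ∃ C, c = 2 * C + 1 := ⟨(c - 1) / 2, by omega⟩
  obtain ⟨B, hB'⟩ : ∃ B : ℕ, 2 * (B : ℤ) = b + ε := ⟨(((b : ℤ) + ε) / 2).toNat, by
    rcases hε with rfl | rfl <;> omega⟩
  have hB0 : (0 : ℤ) < B := by rcases hε with rfl | rfl <;> omega
  have heq : g₀ * w ^ 2 * (A * B * C) = a * b * c * u ^ 3 := by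
    have hA' : ((a : ℚ) + ((1 : ℤ) : ℚ)) = 2 * A := by
      have : ((2 * A : ℕ) : ℚ) = ((a + 1 : ℕ) : ℚ) := by rw [hA]
      push_cast at this ⊢; linarith
    have hB'' : ((b : ℚ) + (ε : ℚ)) = 2 * B := by
      have : ((2 * (B : ℤ) : ℤ) : ℚ) = (((b : ℤ) + ε : ℤ) : ℚ) := by rw [hB']
      push_cast at this ⊢; linarith
    have hC' : ((c : ℚ) + ((-1 : ℤ) : ℚ)) = 2 * C := by
      rw [hC]; push_cast; ring
    rw [hG, hu, hw, hA', hB'', hC'] at hform
    have hAp : (A : ℚ) ≠ 0 := Nat.cast_ne_zero.2 (by omega)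
    have hBp : (B : ℚ) ≠ 0 := Nat.cast_ne_zero.2 (by omega)
    have hCp : (C : ℚ) ≠ 0 := Nat.cast_ne_zero.2 (by omega)
    have hwp : (w : ℚ) ≠ 0 := Nat.cast_ne_zero.2 (by
      rintro rfl; exact absurd hw Nat.card_pos.ne')
    have hq' : ((g₀ * w ^ 2 * (A * B * C) : ℕ) : ℚ) = ((a * b * c * u ^ 3 : ℕ) : ℚ) := by
      push_cast at hform ⊢
      field_simp at hform
      linarith
    exact_mod_cast hq'
  have hpow : ∀ {n : ℕ}, n ∣ g₀ * w ^ 2 * (A * B * C) → Arith.Sm q n := fun {n} h =>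
    Arith.sm_of_dvd (x := x * 6) (y := y * 6) hq <| by
      refine h.trans (heq ▸ ?_)
      rw [show 3 ^ (x * 6) * q ^ (y * 6) = g₀ * g₀ * g₀ * g₀ ^ 3 by
        rw [hg₀, mul_pow, ← pow_mul, ← pow_mul]; ring]
      exact mul_dvd_mul (mul_dvd_mul (mul_dvd_mul hag hbg) hcg) (pow_dvd_pow_of_dvd hug 3)
  have hsm : ∀ {n : ℕ}, n ∣ g₀ → Arith.Sm q n := fun h => Arith.sm_of_dvd hq h
  have hAs : Arith.Sm q A := hpow (dvd_mul_of_dvd_right ((dvd_mul_right A B).mul_right C) _)
  have hBs : Arith.Sm q B := hpow (dvd_mul_of_dvd_right ((dvd_mul_left B A).mul_right C) _)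
  have hCs : Arith.Sm q C := hpow (dvd_mul_of_dvd_right (dvd_mul_left C (A * B)) _)
  have hc3 : c = 3 := by
    rcases hε with rfl | rfl
    · exact (Arith.no_sum hq hq2 hq3 (hsm hag) hAs hA ha1 (hsm hbg) hBs (by omega) hb1 (hsm hcg)
        hCs hC (by omega)).elim
    · exact Arith.sum_eq hq hq2 hq3 (hsm hag) hAs hA ha1 (hsm hbg) hBs (by omega) hb1 (hsm hcg)
        hCs hC hc1 (by omega)
  -- the representation of degree three
  obtain ⟨n, ρ, -, hρ⟩ := ζ₄.2
  have hch : ∀ g, ρ.character g = (ζ₄ : G → ℂ) g := fun g => congrFun hρ g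
  have h1 : ρ.character 1 = 3 := by
    rw [hch, DegreeBounds.Basic.charDegree_irr ζ₄, ← hc, hc3]; norm_num
  have hker := Characters.Kernel.charKer_eq_bot_of_simple (Characters.Basic.isCharacter_irr ζ₄)
    (g := (t : G)) (by rw [(hval t ht).2.2, ← hch 1, h1]; norm_num)
  have hf : ∀ g : G, ρ.character g = ρ.character 1 → g = 1 := fun g h => by
    rw [hch, hch] at h
    exact (Subgroup.mem_bot).1 (hker ▸ h)
  have hmem1 : ζ₄ ∈ Cfsg.principalBlock M G := by rw [hB]; exact Or.inr (Or.inr (Or.inr rfl))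
  have htr : ∀ (s : G), s ∈ (T : Subgroup G) → s ≠ 1 → ∀ o : G, Commute s o → Odd (orderOf o) →
      ρ.character (o * s) = -1 ∧ ρ.character s = -1 := by
    intro s hs hs1 o hso ho
    have hs2 := Involutions.KleinSylow.orderOf_mem hK hs hs1
    obtain ⟨k, hk⟩ := (S0948.centralizer_pPrimeCore hK hs hs1).1
    have hoc : o ∈ Subgroup.centralizer ({s} : Set G) :=
      Subgroup.mem_centralizer_singleton_iff.2 hso.eq.symm
    have hocore : (⟨o, hoc⟩ : ↥(Subgroup.centralizer ({s} : Set G))) ∈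
        Cfsg.pPrimeCore 2 ↥(Subgroup.centralizer ({s} : Set G)) := by
      rw [← QuotientGroup.eq_one_iff, ← orderOf_eq_one_iff]
      refine Nat.eq_one_of_dvd_coprimes (a := orderOf o) (b := 2 ^ k)
        (Nat.Coprime.pow_right k (Nat.coprime_two_right.2 ho)) ?_ ?_
      · rw [← Subgroup.orderOf_mk o hoc]
        exact orderOf_map_dvd (QuotientGroup.mk' _) _
      · rw [← hk, Subgroup.index_eq_card]
        exact orderOf_dvd_natCard _
    have h := DihedralCentralizer.FourGroup.value_eq M hM hs2 ⟨k, hk⟩ ζ₄ hmem1 _ hocore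
    rw [← hso.eq, hch, hch, (hval s hs2).2.2] at *
    exact ⟨h, rfl⟩
  have htt : ∀ s : G, s ∈ (T : Subgroup G) → s * s = 1 := fun s hs => by
    simpa using congrArg Subtype.val (IsKleinFour.mul_self (⟨s, hs⟩ : ↥(T : Subgroup G)))
  have htne : (t : G) ≠ 1 := fun h => by rw [h, orderOf_one] at ht; omega
  refine ⟨t, ht, le_antisymm ?_ (hTW.trans hWC)⟩
  have hfixed : ∀ o : G, Commute (t : G) o → Odd (orderOf o) → o = 1 := by
    obtain ⟨s, hsT, hst, hs1⟩ : ∃ s, s ∈ (T : Subgroup G) ∧ s ≠ (t : G) ∧ s ≠ 1 := by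
      by_contra h
      push Not at h
      have hle : (T : Subgroup G) ≤ Subgroup.zpowers (t : G) := fun r hr => by
        by_cases hrt : r = (t : G)
        · exact hrt ▸ Subgroup.mem_zpowers _
        · exact (h r hr hrt) ▸ one_mem _
      have := Subgroup.card_le_of_le hle
      rw [Nat.card_zpowers, ht, hT4] at this
      omega
    have hts' : (t : G) * s = s * t := setLike_mul_comm htT hsT
    have htsT : (t : G) * s ∈ (T : Subgroup G) := mul_mem htT hsT
    have hts1 : (t : G) * s ≠ 1 := fun h => hst (by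
      rw [← mul_one s, ← htt t htT, ← mul_assoc, ← hts', h, one_mul])
    have hcentral : ∀ o : G, Commute (t : G) o → Commute s o → Odd (orderOf o) → o = 1 := by
      intro o ho1 ho2 ho
      exact DegThree.eq_one_of_values hf (htt t htT) (htt s hsT) h1 (htr t htT htne o ho1 ho).2
        (htr s hsT hs1 o ho2 ho).2 hts' (htr _ htsT hts1 o (ho1.mul_left ho2) ho).2
        (htr t htT htne o ho1 ho).1 (htr s hsT hs1 o ho2 ho).1
        (htr _ htsT hts1 o (ho1.mul_left ho2) ho).1
    intro o ho hodd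
    refine hcentral o ho ?_ hodd
    have hso : Commute (t : G) (s * o * s⁻¹) :=
      ((show Commute (t : G) s from hts').mul_right ho).mul_right
        (show Commute (t : G) s from hts').inv_right
    have hd : Commute (t : G) (o⁻¹ * (s * o * s⁻¹)) := ho.inv_right.mul_right hso
    have hdodd : Odd (orderOf (o⁻¹ * (s * o * s⁻¹))) := by
      -- both factors lie in the normal complement of `C(t)`
      obtain ⟨k, hk⟩ := (S0948.centralizer_pPrimeCore hK htT htne).1
      set N := Cfsg.pPrimeCore 2 ↥(Subgroup.centralizer ({(t : G)} : Set G))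
      have hmemN : ∀ z : ↥(Subgroup.centralizer ({(t : G)} : Set G)), Odd (orderOf (z : G)) → z ∈ N := by
        intro z hz
        rw [← QuotientGroup.eq_one_iff, ← orderOf_eq_one_iff]
        refine Nat.eq_one_of_dvd_coprimes (a := orderOf z) (b := 2 ^ k)
          (Nat.Coprime.pow_right k (Nat.coprime_two_right.2 (by rwa [← Subgroup.orderOf_coe]))) ?_ ?_
        · exact orderOf_map_dvd (QuotientGroup.mk' _) _
        · rw [← hk, Subgroup.index_eq_card]
          exact orderOf_dvd_natCard _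
      let o' : ↥(Subgroup.centralizer ({(t : G)} : Set G)) :=
        ⟨o, Subgroup.mem_centralizer_singleton_iff.2 ho.eq.symm⟩
      let s' : ↥(Subgroup.centralizer ({(t : G)} : Set G)) :=
        ⟨s, Subgroup.mem_centralizer_singleton_iff.2 hts'.symm⟩
      have ho' : o' ∈ N := hmemN o' hodd
      exact DihedralCentralizer.FourGroup.odd_orderOf (o'⁻¹ * (s' * o' * s'⁻¹))
        (mul_mem (inv_mem ho') ((Cfsg.pPrimeCore 2 _).normal_of_characteristic.conj_mem _ ho' s'))
    exact DegThree.commute_of_values hf (htt t htT) h1 (htr t htT htne o ho hodd).2 hts' ho.eq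
      (htr t htT htne _ hd hdodd).1
  -- `C(t)` is a `2`-group containing the Sylow subgroup
  have hp : IsPGroup 2 ↥(Subgroup.centralizer ({(t : G)} : Set G)) := by
    rw [IsPGroup.iff_card]
    refine ⟨_, Nat.eq_prime_pow_of_unique_prime_dvd (p := 2) Nat.card_pos.ne' fun {r} hr hrd => ?_⟩
    by_contra hne
    haveI := Fact.mk hr
    obtain ⟨o, ho⟩ := exists_prime_orderOf_dvd_card' r hrd
    have h := hfixed o (Subgroup.mem_centralizer_singleton_iff.1 o.2).symm
      (by rw [Subgroup.orderOf_coe, ho]; exact hr.odd_of_ne_two hne)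
    rw [← Subgroup.orderOf_coe, h, orderOf_one] at ho
    exact hr.one_lt.ne ho
  exact (T.3 hp (hTW.trans hWC)).le

/-- A simple group of order `4 · p ^ a · q ^ b` is the alternating group of degree five. -/
theorem iso_alt_five [IsSimpleGroup G] (hna : ¬ IsMulCommutative G) {p q a b : ℕ} (hp : p.Prime)
    (hq : q.Prime) (hG : Nat.card G = 4 * p ^ a * q ^ b) :
    Nonempty (G ≃* ↥(alternatingGroup (Fin 5))) := by
  classical
  haveI : Fact (Nat.Prime 2) := ⟨Nat.prime_two⟩
  have hsolv : ¬ Group.IsSolvable G := fun h => hna ⟨⟨IsSimpleGroup.comm_iff_isSolvable.2 h⟩⟩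
  have hp2 : p ≠ 2 := by
    rintro rfl
    exact hsolv (Induced.Burnside.isSolvable_of_card_eq 2 q (a + 2) b Nat.prime_two hq
      (by rw [hG, pow_add]; ring))
  have hq2 : q ≠ 2 := by
    rintro rfl
    exact hsolv (Induced.Burnside.isSolvable_of_card_eq p 2 a (b + 2) hp Nat.prime_two
      (by rw [hG, pow_add]; ring))
  have hodd : Odd (p ^ a * q ^ b) :=
    Odd.mul (Odd.pow (hp.odd_of_ne_two hp2)) (Odd.pow (hq.odd_of_ne_two hq2))
  rw [mul_assoc] at hG
  have h8 : ¬ 8 ∣ Nat.card G := by rw [hG]; rw [Nat.odd_iff] at hodd; omega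
  obtain ⟨T⟩ : Nonempty (Sylow 2 G) := inferInstance
  obtain ⟨hK, h3⟩ := S0992.result hna (by rw [hG]; exact ⟨2 * (p ^ a * q ^ b), by ring⟩) h8 T
  have h3' : 3 ∣ 4 * (p ^ a * q ^ b) := hG ▸ (h3 ▸ (Subgroup.relIndex_dvd_card
    (Subgroup.centralizer ((T : Subgroup G) : Set G)) _)).trans
    (Subgroup.card_subgroup_dvd_card _)
  have hthree : p = 3 ∨ q = 3 := by
    rcases (Nat.Prime.dvd_mul Nat.prime_three).1 ((show Nat.Coprime 3 4 by norm_num).dvd_of_dvd_mul_left h3') with h | h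
    · exact Or.inl ((Nat.prime_dvd_prime_iff_eq Nat.prime_three hp).1 (Nat.prime_three.dvd_of_dvd_pow h)).symm
    · exact Or.inr ((Nat.prime_dvd_prime_iff_eq Nat.prime_three hq).1 (Nat.prime_three.dvd_of_dvd_pow h)).symm
  obtain ⟨r, x, y, hr, hr2, hr3, hGr⟩ : ∃ r x y, r.Prime ∧ r ≠ 2 ∧ r ≠ 3 ∧
      Nat.card G = 4 * (3 ^ x * r ^ y) := by
    rcases hthree with rfl | rfl
    · by_cases h : q = 3
      · subst h
        exact ⟨5, a + b, 0, by norm_num, by omega, by omega, by rw [hG, pow_add]; ring⟩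
      · exact ⟨q, a, b, hq, hq2, h, hG⟩
    · by_cases h : p = 3
      · subst h
        exact ⟨5, a + b, 0, by norm_num, by omega, by omega, by rw [hG, pow_add]; ring⟩
      · exact ⟨p, b, a, hp, hp2, h, by rw [hG]; ring⟩
  obtain ⟨t, ht, hC⟩ := centralizer_eq hna hr hr2 hr3 hGr T hK
  haveI : IsMulCommutative (T : Subgroup G) := IsKleinFour.isMulCommutative
  have hTne : (T : Subgroup G) ≠ ⊥ := fun h => by
    have := hK.card_four
    rw [h, Subgroup.card_bot] at this
    omega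
  have hO : ∀ N : Subgroup G, N.Normal → Odd (Nat.card N) → N = ⊥ := fun N hN ho =>
    hN.eq_bot_or_eq_top.resolve_right fun h => by
      subst h
      rw [Subgroup.card_top, hG, Nat.odd_iff] at ho
      omega
  rcases DihedralCentralizer.Klein.cases T hK ht hC hO with ⟨Q, N, hN, hc⟩ | hn | h
  · haveI : IsMulCommutative (Q : Subgroup G) := by
      obtain ⟨g, hg⟩ := MulAction.exists_smul_eq G T Q
      refine ⟨⟨fun u v => Subtype.ext ?_⟩⟩
      have hu : (u : G) ∈ ((g • T : Sylow 2 G) : Subgroup G) := by rw [hg]; exact u.2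
      have hv : (v : G) ∈ ((g • T : Sylow 2 G) : Subgroup G) := by rw [hg]; exact v.2
      rw [Sylow.coe_subgroup_smul, Subgroup.mem_pointwise_smul_iff_inv_smul_mem] at hu hv
      have := setLike_mul_comm hu hv
      rw [← smul_mul', ← smul_mul', smul_left_cancel_iff] at this
      exact this
    refine (no_normal_complement hna ?_ hc).elim
    exact fun h => hTne (Subgroup.eq_bot_of_card_eq _
      (by rw [T.card_eq_multiplicity, ← Q.card_eq_multiplicity, h, Subgroup.card_bot]))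
  · refine (hn.eq_bot_or_eq_top.resolve_left hTne |> fun h => hna ?_).elim
    exact ⟨⟨fun u v => setLike_mul_comm (h ▸ Subgroup.mem_top u) (h ▸ Subgroup.mem_top v)⟩⟩
  · exact h

end Cfsg.Agent.Lib.KleinThree
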